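import Cfsg.Agent.H742.PD.RowE6

/-!
# S4246: the row of `E₆(q)` (helper742)

`row_e6` : `Row K` if `IsoChevE6 K`; the criterion `row_three` with primitive prime divisors of `q⁹ - 1`, `q¹² - 1`,
`q⁸ - 1`.
-/

set_option autoImplicit false
set_option linter.unusedSectionVars false

namespace Cfsg.Agent.H742.PD

open CoxeterSystem Cfsg Cfsg.Lie Cfsg.Lie.ChevalleyDatum
open Cfsg.Agent.ChevalleyStructure Cfsg.Agent.ChevalleyStructure.Elts Cfsg.Agent.ChevalleyStructure.CoxeterGeom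
  Cfsg.Agent.ChevalleyStructure.CoxeterGeomTypes Cfsg.Agent.ChevalleyStructure.NPerm
open Cfsg.Agent.Tits.Roots Cfsg.Agent.Tits.Core Cfsg.Agent.Nodes Cfsg.Agent.Nodes.Reps Cfsg.Agent.Nodes.BNOf
  Cfsg.Agent.Nodes.RGDChev
open Cfsg.Agent.KFacts.RgdChevCoord Cfsg.Agent.GpExc.Field Cfsg.Agent.BpExc.Fr Cfsg.Agent.BpExc.LangFr
  Cfsg.Agent.BpExc.TowChev Cfsg.Agent.BpExc
open Cfsg.Agent.H129.TorusChar Cfsg.Agent.H129.TorusCent Cfsg.Agent.H129.TorusTw Cfsg.Agent.H129.TorusMain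
  Cfsg.Agent.H129.TorusUntw Cfsg.Agent.H719.RowTorus Cfsg.Agent.H719 Cfsg.Agent.H568 Cfsg.Agent.H568.ESixThree
open Cfsg.Agent.H160.PD Cfsg.Agent.H56.Exc

universe u

/-- primitive prime divisors of `q ^ i - 1`, `q = r ^ e` -/
theorem exists_ppd {r e i : ℕ} (hr : r.Prime) (he : 0 < e) (hi : 7 ≤ i) :
    ∃ n : ℕ, (∀ m, n ∣ r ^ m - 1 ↔ e * i ∣ m) ∧ e * i ∣ n - 1 ∧ n ≠ r ∧ H436.Prim (r ^ e) i n := by
  have h7 : 7 ≤ e * i := hi.trans (Nat.le_mul_of_pos_left i he)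
  obtain ⟨l, hl, hd, hl1, hlr⟩ := Lib.Zsigmondy.exists_primitive hr.two_le (n := e * i) (by omega) (by omega) (by omega)
  refine ⟨l, hd, hl1, fun h => hlr (h ▸ dvd_rfl), hl, fun m => ?_, fun h => hlr (hl.dvd_of_dvd_pow h)⟩
  rw [← pow_mul, hd, Nat.mul_dvd_mul_iff_left he]

section Cls

variable {F : Type u} [Field F] [Fintype F] {r e : ℕ} [Fact r.Prime] [CharP (AlgebraicClosure F) r]
  [Finite CoxeterMatrix.E₆.Group] {hk : LocFin (AlgebraicClosure F)}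

theorem cls_nine (hq : Fintype.card F = r ^ e) (he : 0 < e) {n : ℕ} (hd : ∀ m, n ∣ r ^ m - 1 ↔ e * 9 ∣ m)
    (hnr : n ≠ r) (hn : H436.Prim (r ^ e) 9 n) :
    Cls F r e hk TE6_9.B ((r ^ e) ^ 6 + (r ^ e) ^ 3 + 1) n 54 9 := by
  have hr : r.Prime := Fact.out
  have hlt := prim_lt2 hn (by norm_num) (by norm_num)
  have hp := hn.prime
  have hW : Nat.card CoxeterMatrix.E₆.Group = 51840 :=
    Cfsg.Agent.S1093.result (⟨6, CoxeterMatrix.E₆⟩, 51840) (by simp)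
  have hB := big_E6_9 hq (m := (r ^ e) ^ 6 + (r ^ e) ^ 3 + 1) (by push_cast; ring) hn
  have hfact : Fact n.Prime := ⟨hp⟩
  have hz := prim_dvd_9 hn
  refine ⟨hp, hnr, (Nat.coprime_primes hp Nat.prime_three).2 (by omega), fun m hm => (hd m).1 hm,
    fun P => hB.isCyclic_sylow P, fun t ht ω h1 h2 h3 h4 => rank_nine tp ht h1 h2 h3 h4, by positivity, ?_⟩
  refine ⟨_, exists_tor' tp CoxeterMatrix.E₆.toCoxeterSystem (algebraMap F (AlgebraicClosure F))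
    (by norm_num) hk he hq invC_E6 (by norm_num) TE6_9.hA TE6_9.chainOK TE6_9.cycOK TE6_9.rootOK
    (N := (r ^ e) ^ 6 + (r ^ e) ^ 3 + 1) (N0 := n)
    (by rw [TE6_9.fN_eq]; push_cast; ring)
    (H129.UntwData.coprime_of_eq (a := ((r ^ e : ℕ) : ℤ) ^ 2 + ((r ^ e : ℕ) : ℤ) ^ 5) (by push_cast; ring))
    ?_ (fun l hl hld => ?_)⟩
  · have e1 : (((r ^ e) ^ 6 + (r ^ e) ^ 3 + 1 : ℕ) : ℤ) = 1 + ((r ^ e : ℕ) : ℤ) ^ 3 + ((r ^ e : ℕ) : ℤ) ^ 6 := by
      push_cast; ring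
    rw [← Int.natCast_dvd_natCast, e1]
    exact hz
  · have hln : l = n := (Nat.prime_dvd_prime_iff_eq hl hp).1 hld
    subst hln
    refine ⟨by rw [hW]; exact prime_five hl (by omega) (by omega) (by omega),
      fun h => absurd ((Nat.prime_dvd_prime_iff_eq hl Nat.prime_three).1 h) (by omega), fun s hs => ?_⟩
    exact absurd ((Nat.prime_dvd_prime_iff_eq hl Nat.prime_three).1
      (by exact_mod_cast TE6_9.dvd_of_G hz s hs)) (by omega)

theorem cls_twelve (hq : Fintype.card F = r ^ e) (he : 0 < e) {n : ℕ} (hd : ∀ m, n ∣ r ^ m - 1 ↔ e * 12 ∣ m)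
    (hnr : n ≠ r) (hn : H436.Prim (r ^ e) 12 n) :
    Cls F r e hk TE6_12.B (((r ^ e) ^ 4 - (r ^ e) ^ 2 + 1) * ((r ^ e) ^ 2 + (r ^ e) + 1)) n 48 12 := by
  have hr : r.Prime := Fact.out
  have hlt := prim_lt hn (by norm_num)
  have hp := hn.prime
  have hq1 : 1 < r ^ e := Nat.one_lt_pow he.ne' hr.one_lt
  have h0 : (r ^ e) ^ 2 ≤ (r ^ e) ^ 4 := Nat.pow_le_pow_right (by omega) (by norm_num)
  have hW : Nat.card CoxeterMatrix.E₆.Group = 51840 :=
    Cfsg.Agent.S1093.result (⟨6, CoxeterMatrix.E₆⟩, 51840) (by simp)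
  have hB := big_E6_12 hq (m := ((r ^ e) ^ 4 - (r ^ e) ^ 2 + 1) * ((r ^ e) ^ 2 + (r ^ e) + 1))
    (by push_cast [Nat.cast_sub h0]; ring) hn
  have hfact : Fact n.Prime := ⟨hp⟩
  have hz := prim_dvd_12 hn
  refine ⟨hp, hnr, (Nat.coprime_primes hp Nat.prime_three).2 (by omega), fun m hm => (hd m).1 hm,
    fun P => hB.isCyclic_sylow P, fun t ht ω h1 h2 h3 h4 => rank_twelve tp ht h1 h2 h3 h4, by positivity, ?_⟩
  refine ⟨_, exists_tor' tp CoxeterMatrix.E₆.toCoxeterSystem (algebraMap F (AlgebraicClosure F))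
    (by norm_num) hk he hq invC_E6 (by norm_num) TE6_12.hA TE6_12.chainOK TE6_12.cycOK TE6_12.rootOK
    (N := ((r ^ e) ^ 4 - (r ^ e) ^ 2 + 1) * ((r ^ e) ^ 2 + (r ^ e) + 1)) (N0 := n)
    (by rw [TE6_12.fN_eq]; push_cast [Nat.cast_sub h0]; ring)
    (H129.UntwData.coprime_of_eq (a := 1 - ((r ^ e : ℕ) : ℤ) ^ 2 + ((r ^ e : ℕ) : ℤ) ^ 4 + ((r ^ e : ℕ) : ℤ) ^ 5)
      (by push_cast [Nat.cast_sub h0]; ring))
    ?_ (fun l hl hld => ?_)⟩
  · refine Dvd.dvd.mul_right ?_ _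
    have e1 : (((r ^ e) ^ 4 - (r ^ e) ^ 2 + 1 : ℕ) : ℤ) = 1 - ((r ^ e : ℕ) : ℤ) ^ 2 + ((r ^ e : ℕ) : ℤ) ^ 4 := by
      push_cast [Nat.cast_sub h0]; ring
    rw [← Int.natCast_dvd_natCast, e1]
    exact hz
  · have hln : l = n := (Nat.prime_dvd_prime_iff_eq hl hp).1 hld
    subst hln
    refine ⟨by rw [hW]; exact prime_five hl (by omega) (by omega) (by omega),
      fun h => absurd ((Nat.prime_dvd_prime_iff_eq hl Nat.prime_three).1 h) (by omega), fun s hs => ?_⟩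
    exact absurd ((Nat.prime_dvd_prime_iff_eq hl Nat.prime_two).1
      (by exact_mod_cast TE6_12.dvd_of_G hz s hs)) (by omega)

theorem cls_eight (hq : Fintype.card F = r ^ e) (he : 0 < e) {n : ℕ} (hd : ∀ m, n ∣ r ^ m - 1 ↔ e * 8 ∣ m)
    (hnr : n ≠ r) (hn : H436.Prim (r ^ e) 8 n) :
    Cls F r e hk H129.DataE6e.B ((1 + (r ^ e) ^ 4) * ((r ^ e) ^ 2 - 1)) n 32 8 := by
  have hr : r.Prime := Fact.out
  have hlt := prim_lt hn (by norm_num)
  have hp := hn.prime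
  have hq1 : 1 < r ^ e := Nat.one_lt_pow he.ne' hr.one_lt
  have h0 : 1 ≤ (r ^ e) ^ 2 := Nat.one_le_pow _ _ (by omega)
  have h1 : 1 < (r ^ e) ^ 2 := Nat.one_lt_pow (by norm_num) hq1
  have hW : Nat.card CoxeterMatrix.E₆.Group = 51840 :=
    Cfsg.Agent.S1093.result (⟨6, CoxeterMatrix.E₆⟩, 51840) (by simp)
  have hB := big_E6_8 hq (m := (1 + (r ^ e) ^ 4) * ((r ^ e) ^ 2 - 1))
    (by push_cast [Nat.cast_sub h0]; ring) hn
  have hfact : Fact n.Prime := ⟨hp⟩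
  have hz := prim_dvd_8 hn
  refine ⟨hp, hnr, (Nat.coprime_primes hp Nat.prime_three).2 (by omega), fun m hm => (hd m).1 hm,
    fun P => hB.isCyclic_sylow P, fun t ht ω h1 h2 h3 h4 => rank_eight tp ht h1 h2 h3 h4, ?_, ?_⟩
  · have h2 : 0 < (r ^ e) ^ 2 - 1 := by omega
    positivity
  refine ⟨_, exists_tor' tp CoxeterMatrix.E₆.toCoxeterSystem (algebraMap F (AlgebraicClosure F))
    (by norm_num) hk he hq invC_E6 (by norm_num) H129.DataE6e.hA H129.DataE6e.chainOK H129.DataE6e.cycOK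
    H129.DataE6e.rootOK
    (N := (1 + (r ^ e) ^ 4) * ((r ^ e) ^ 2 - 1)) (N0 := n)
    (by rw [H129.DataE6e.fN_eq]; push_cast [Nat.cast_sub h0]; ring)
    (H129.RealT.coprime_of_neg (a := ((r ^ e : ℕ) : ℤ) - ((r ^ e : ℕ) : ℤ) ^ 3 + ((r ^ e : ℕ) : ℤ) ^ 5)
      (by push_cast [Nat.cast_sub h0]; ring))
    ?_ (fun l hl hld => ?_)⟩
  · refine Dvd.dvd.mul_right ?_ _
    have e1 : ((1 + (r ^ e) ^ 4 : ℕ) : ℤ) = 1 + ((r ^ e : ℕ) : ℤ) ^ 4 := by
      push_cast; ring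
    rw [← Int.natCast_dvd_natCast, e1]
    exact hz
  · have hln : l = n := (Nat.prime_dvd_prime_iff_eq hl hp).1 hld
    subst hln
    refine ⟨by rw [hW]; exact prime_five hl (by omega) (by omega) (by omega),
      fun h => absurd ((Nat.prime_dvd_prime_iff_eq hl Nat.prime_three).1 h) (by omega), fun s hs => ?_⟩
    rcases H129.DataE6e.dvd_of_G hz s hs with h | h
    · have h2 : l ∣ 1 := by exact_mod_cast h
      exact hl.one_lt.ne' (Nat.dvd_one.1 h2)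
    · exact absurd ((Nat.prime_dvd_prime_iff_eq hl Nat.prime_two).1 (by exact_mod_cast h)) (by omega)

end Cls

/-! ### the theorem -/

section Main

variable {F : Type u} [Field F] [Fintype F]

theorem row_aux {q : ℕ} (hq : Fintype.card F = q) : Row ↥(chevE6.group F) := by
  have hW : Nat.card CoxeterMatrix.E₆.Group = 51840 :=
    Cfsg.Agent.S1093.result (⟨6, CoxeterMatrix.E₆⟩, 51840) (by simp)
  have : Finite CoxeterMatrix.E₆.Group := Nat.finite_of_card_ne_zero (by rw [hW]; norm_num)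
  have hfin : Finite ↥(chevE6.group F) := inferInstance
  obtain ⟨hS, hna⟩ := S1054.result (F := F) chevE6 (by simp)
  have hZ : Subgroup.center ↥(chevE6.group F) = ⊥ := Cfsg.Agent.H568.center_eq_bot hna
  obtain ⟨r, e, hrF, hrc, hrk, he, rfl, hk⟩ := exists_closure hq
  have hr : r.Prime := Fact.out
  have hq1 : 1 < r ^ e := Nat.one_lt_pow he.ne' hr.one_lt
  have hq0 : 1 ≤ r ^ e := hq1.le
  have h24 : (r ^ e) ^ 2 ≤ (r ^ e) ^ 4 := Nat.pow_le_pow_right (by omega) (by norm_num)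
  have h02 : 1 ≤ (r ^ e) ^ 2 := Nat.one_le_pow _ _ (by omega)
  obtain ⟨n9, hd9, he9, hr9, hn9⟩ := exists_ppd hr he (i := 9) (by norm_num)
  obtain ⟨n12, hd12, he12, hr12, hn12⟩ := exists_ppd hr he (i := 12) (by norm_num)
  obtain ⟨n8, hd8, he8, hr8, hn8⟩ := exists_ppd hr he (i := 8) (by norm_num)
  have C9 := cls_nine (hk := hk) hq he hd9 hr9 hn9
  have C12 := cls_twelve (hk := hk) hq he hd12 hr12 hn12
  have C8 := cls_eight (hk := hk) hq he hd8 hr8 hn8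
  have B9 := big_E6_9 hq (m := (r ^ e) ^ 6 + (r ^ e) ^ 3 + 1) (by push_cast; ring) hn9
  have B12 := big_E6_12 hq (m := ((r ^ e) ^ 4 - (r ^ e) ^ 2 + 1) * ((r ^ e) ^ 2 + (r ^ e) + 1))
    (by push_cast [Nat.cast_sub h24]; ring) hn12
  have B8 := big_E6_8 hq (m := (1 + (r ^ e) ^ 4) * ((r ^ e) ^ 2 - 1))
    (by push_cast [Nat.cast_sub h02]; ring) hn8
  have lt9 := prim_lt2 hn9 (by norm_num) (by norm_num)
  have lt12 := prim_lt hn12 (by norm_num)
  have lt8 := prim_lt hn8 (by norm_num)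
  have hord := ord_E6 (F := F) hq
  -- the outer automorphism group
  have hout : out ↥(chevE6.group F) = 2 * Nat.gcd 3 (r ^ e - 1) * e := H70.OutE.card_out_E6 hq
  have good : ∀ {i n : ℕ}, 7 ≤ i → e * i ∣ n - 1 → H436.Prim (r ^ e) i n → 3 < n →
      n ∣ Nat.card ↥(chevE6.group F) → Good ↥(chevE6.group F) n := by
    intro i n hi h1 hn h3 hd
    refine good_of hn.prime (by omega) hd ?_
    rw [hout]
    intro h4
    rcases hn.prime.dvd_mul.1 h4 with h5 | h5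
    · rcases hn.prime.dvd_mul.1 h5 with h6 | h6
      · have := Nat.le_of_dvd (by norm_num) h6
        omega
      · have := Nat.le_of_dvd (by norm_num) (h6.trans (Nat.gcd_dvd_left _ _))
        omega
    · have h6 := Nat.le_of_dvd he h5
      have h7 := Nat.le_of_dvd (by omega) h1
      have h8 : e * 1 ≤ e * i := Nat.mul_le_mul_left _ (by omega)
      omega
  have hcard : ∀ {i n : ℕ}, H436.Prim (r ^ e) i n → 3 < n → i ∈ [8, 9, 12] → n ∣ Nat.card ↥(chevE6.group F) := by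
    intro i n hn h3 hi
    have h1 : (n : ℤ) ∣ ((Nat.gcd 3 (r ^ e - 1) : ℕ) : ℤ) * (Nat.card ↥(chevE6.group F) : ℤ) := by
      rw [hord]
      have h2 : (n : ℤ) ∣ ((r ^ e : ℕ) : ℤ) ^ i - 1 := by
        have h3 := Int.natCast_dvd_natCast.2 ((hn.dvd_iff i).2 dvd_rfl)
        rw [Nat.cast_sub (Nat.one_le_pow _ _ hq0)] at h3
        push_cast at h3 ⊢
        exact h3
      simp only [List.mem_cons, List.not_mem_nil, or_false] at hi
      rcases hi with rfl | rfl | rfl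
      · exact Dvd.dvd.mul_right (Dvd.dvd.mul_right (Dvd.dvd.mul_left h2 _) _) _
      · exact Dvd.dvd.mul_right (Dvd.dvd.mul_left h2 _) _
      · exact Dvd.dvd.mul_left h2 _
    rw [← Nat.cast_mul, Int.natCast_dvd_natCast] at h1
    refine (hn.prime.dvd_mul.1 h1).resolve_left fun h4 => ?_
    have := Nat.le_of_dvd (by norm_num) (h4.trans (Nat.gcd_dvd_left _ _))
    omega
  -- divisors
  have D9 : (((r ^ e) ^ 6 + (r ^ e) ^ 3 + 1 : ℕ) : ℤ) ∣ (((r ^ e : ℕ) : ℤ) ^ 9 - 1) * (((r ^ e : ℕ) : ℤ) ^ 9 - 1) := by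
    refine ⟨(((r ^ e : ℕ) : ℤ) ^ 3 - 1) * (((r ^ e : ℕ) : ℤ) ^ 9 - 1), ?_⟩
    push_cast; ring
  have D12 : ((((r ^ e) ^ 4 - (r ^ e) ^ 2 + 1) * ((r ^ e) ^ 2 + (r ^ e) + 1) : ℕ) : ℤ) ∣
      (((r ^ e : ℕ) : ℤ) ^ 12 - 1) * (((r ^ e : ℕ) : ℤ) ^ 3 - 1) := by
    refine ⟨(((r ^ e : ℕ) : ℤ) ^ 6 - 1) * (((r ^ e : ℕ) : ℤ) ^ 2 + 1) * (((r ^ e : ℕ) : ℤ) - 1), ?_⟩
    push_cast [Nat.cast_sub h24]; ring
  have D8 : (((1 + (r ^ e) ^ 4) * ((r ^ e) ^ 2 - 1) : ℕ) : ℤ) ∣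
      (((r ^ e : ℕ) : ℤ) ^ 8 - 1) * (((r ^ e : ℕ) : ℤ) ^ 2 - 1) := by
    refine ⟨((r ^ e : ℕ) : ℤ) ^ 4 - 1, ?_⟩
    push_cast [Nat.cast_sub h02]; ring
  -- reductions
  have z9 : ∀ l : ℕ, l ∣ (r ^ e) ^ 6 + (r ^ e) ^ 3 + 1 →
      ((r ^ e : ℕ) : ZMod l) ^ 6 + ((r ^ e : ℕ) : ZMod l) ^ 3 + 1 = 0 := by
    intro l hl
    have := (ZMod.natCast_eq_zero_iff _ _).2 hl
    push_cast at this ⊢
    exact this
  have z12 : ∀ l : ℕ, l ∣ ((r ^ e) ^ 4 - (r ^ e) ^ 2 + 1) * ((r ^ e) ^ 2 + (r ^ e) + 1) →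
      (((r ^ e : ℕ) : ZMod l) ^ 4 - ((r ^ e : ℕ) : ZMod l) ^ 2 + 1) *
        (((r ^ e : ℕ) : ZMod l) ^ 2 + ((r ^ e : ℕ) : ZMod l) + 1) = 0 := by
    intro l hl
    have := (ZMod.natCast_eq_zero_iff _ _).2 hl
    push_cast [Nat.cast_sub h24] at this ⊢
    exact this
  have z8 : ∀ l : ℕ, l ∣ (1 + (r ^ e) ^ 4) * ((r ^ e) ^ 2 - 1) →
      (1 + ((r ^ e : ℕ) : ZMod l) ^ 4) * (((r ^ e : ℕ) : ZMod l) ^ 2 - 1) = 0 := by
    intro l hl
    have := (ZMod.natCast_eq_zero_iff _ _).2 hl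
    push_cast [Nat.cast_sub h02] at this ⊢
    exact this
  have two : ∀ {l : ℕ}, l.Prime → l ≠ 2 → (2 : ZMod l) ≠ 0 := by
    intro l hl h2 h
    have h1 : ((2 : ℕ) : ZMod l) = 0 := by exact_mod_cast h
    rw [ZMod.natCast_eq_zero_iff] at h1
    exact h2 ((Nat.prime_dvd_prime_iff_eq hl Nat.prime_two).1 h1)
  refine row_three hZ (good (by norm_num) he9 hn9 (by omega) (hcard hn9 (by omega) (by simp)))
    (good (by norm_num) he12 hn12 (by omega) (hcard hn12 (by omega) (by simp)))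
    (good (by norm_num) he8 hn8 (by omega) (hcard hn8 (by omega) (by simp))) ?_ ?_ ?_ ?_ ?_ ?_
  · refine noOdd_of_big B9 B12 (ndvd_of_prim hn12 hq0 D9 (by norm_num) (by norm_num) ?_)
      (ndvd_of_prim hn9 hq0 D12 (by norm_num) (by norm_num) ?_)
    · intro h
      rw [show (9 : ℕ) = 3 ^ 2 by norm_num] at h
      have := Nat.le_of_dvd (by norm_num) (hn12.prime.dvd_of_dvd_pow h)
      omega
    · intro h
      have := Nat.le_of_dvd (by norm_num) h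
      omega
  · refine noOdd_of_big B9 B8 (ndvd_of_prim hn8 hq0 D9 (by norm_num) (by norm_num) ?_)
      (ndvd_of_prim hn9 hq0 D8 (by norm_num) (by norm_num) ?_)
    · intro h
      rw [show (9 : ℕ) = 3 ^ 2 by norm_num] at h
      have := Nat.le_of_dvd (by norm_num) (hn8.prime.dvd_of_dvd_pow h)
      omega
    · intro h
      have := Nat.le_of_dvd (by norm_num) h
      omega
  · refine noOdd_of_big B12 B8 (ndvd_of_prim hn8 hq0 D12 (by norm_num) (by norm_num) ?_)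
      (ndvd_of_prim hn12 hq0 D8 (by norm_num) (by norm_num) ?_)
    · intro h
      rw [show (12 : ℕ) = 4 * 3 by norm_num] at h
      rcases hn8.prime.dvd_mul.1 h with h | h
      · have := Nat.le_of_dvd (by norm_num) h
        omega
      · have := Nat.le_of_dvd (by norm_num) h
        omega
    · intro h
      have := Nat.le_of_dvd (by norm_num) h
      omega
  · refine inc_of_cls hq he C9 C12 (by decide) (by norm_num) fun l hl h2 h3 h4 => ?_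
    have : Fact l.Prime := ⟨hl⟩
    have h5 := three_of_zmod hl (arith_nine_twelve (z9 l h3) (z12 l h4))
    subst h5
    exact ⟨rfl, three_dvd_of hq0 (Or.inl (z9 3 h3))⟩
  · refine inc_of_cls hq he C9 C8 (by decide) (by norm_num) fun l hl h2 h3 h4 => ?_
    have : Fact l.Prime := ⟨hl⟩
    have h5 := three_of_zmod hl (arith_nine_eight (two hl h2) (z9 l h3) (z8 l h4))
    subst h5
    exact ⟨rfl, three_dvd_of hq0 (Or.inl (z9 3 h3))⟩
  · refine inc_of_cls hq he C12 C8 (by decide) (by norm_num) fun l hl h2 h3 h4 => ?_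
    have : Fact l.Prime := ⟨hl⟩
    have h5 := three_of_zmod hl (arith_twelve_eight (z12 l h3) (z8 l h4))
    subst h5
    exact ⟨rfl, three_dvd_of hq0 (Or.inr (z12 3 h3))⟩

end Main

/-- **The row of `E₆(q)`.** -/
theorem row_e6 (K : Type u) [Group K] [Finite K] [IsSimpleGroup K] (h : Cfsg.Lie.IsoChevE6 K) : Row K := by
  obtain ⟨F, _, _, ⟨f⟩⟩ := h
  exact Row.congr f (row_aux rfl)

end Cfsg.Agent.H742.PD
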