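import Cfsg.Agent.H56.Exc.BigRows

/-!
# The torus of order `(q⁴ + 1) (q² - 1)` of `E₆(q)` is big (helper742)
-/

set_option autoImplicit false

namespace Cfsg.Agent.H742.PD

open Cfsg.Agent Cfsg.Lie Cfsg.Agent.H56.Exc

universe u

variable {F : Type u} [Field F] [Fintype F] {q : ℕ}

theorem big_E6_8 (hq : Fintype.card F = q) {m r : ℕ}
    (hm : (m : ℤ) = (1 + (q : ℤ) ^ 4) * ((q : ℤ) ^ 2 - 1)) (hr : H436.Prim q 8 r) :
    Big ↥(chevE6.group F) r m 8 := by
  have hlt := prim_lt hr (by norm_num)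
  have hmod := prim_mod hr
  have hrp := hr.prime
  have hfact : Fact r.Prime := ⟨hrp⟩
  refine Big.of_cyc hrp (Cfsg.Agent.H129.CycCard.card_E6_8 hq hm hrp (prim_dvd_8 hr) (by omega)) ?_
    (fun h1 => absurd (Nat.le_of_dvd (by norm_num) h1) (not_le.2 hlt))
  intro t c a htm hmt hc ha hca
  set D := Nat.gcd 3 (q - 1) with hDdef
  set K : ℤ := (q : ℤ) ^ 36 * ((q : ℤ) ^ 5 - 1) * ((q : ℤ) ^ 6 - 1) * ((q : ℤ) ^ 4 - 1) * ((q : ℤ) ^ 9 - 1) *
    ((q : ℤ) ^ 12 - 1) with hKdef
  have hG : (D : ℤ) * Nat.card ↥(chevE6.group F) = m * K := by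
    rw [ord_E6 hq, hm]; ring
  have hK : (K : ZMod r) = (8 : ℕ) := by
    rw [hKdef]
    push_cast
    exact Kap.kap_E6_8 _ (prim_phi_8 hr)
  have ha0 : 0 < r - 1 := by omega
  have har : a < r := lt_of_le_of_lt (Nat.le_of_dvd ha0 ha) (by omega)
  have hD3 : D = 1 ∨ D = 3 := by
    have h1 : D ∣ 3 := Nat.gcd_dvd_left _ _
    exact (Nat.dvd_prime Nat.prime_three).1 h1
  have hD0 : 0 < D := by omega
  have ht0 : 0 < t := Nat.pos_of_ne_zero (by
    rintro rfl
    rw [zero_mul] at hc
    exact absurd hc Nat.card_pos.ne')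
  obtain ⟨s, rfl⟩ := htm
  have hsD : s ∣ D := Nat.dvd_of_mul_dvd_mul_left ht0 (by rw [mul_comm t D]; exact hmt)
  have hcK : (D : ℤ) * c = s * K := by
    have h1 : (D : ℤ) * (t * c) = (t * s) * K := by
      rw [hc] at hG; push_cast at hG; exact hG
    have ht : (t : ℤ) ≠ 0 := by exact_mod_cast ht0.ne'
    apply mul_left_cancel₀ ht
    linear_combination h1
  have hcz : (c : ZMod r) = a := (ZMod.natCast_eq_natCast_iff _ _ _).2 hca
  have hDs : (D : ZMod r) * a = s * (8 : ℕ) := by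
    have h1 := congrArg (Int.cast : ℤ → ZMod r) hcK
    push_cast at h1 hK ⊢
    rw [hcz, hK] at h1
    exact h1
  have hDr : ¬ r ∣ D := fun h1 => by
    have := Nat.le_of_dvd hD0 h1
    omega
  have hsone : s = D ∨ (s = 1 ∧ D = 3) := by
    rcases hD3 with h1 | h1
    · left
      rw [h1] at hsD ⊢
      exact Nat.dvd_one.1 hsD
    · rw [h1] at hsD
      rcases (Nat.dvd_prime Nat.prime_three).1 hsD with h2 | h2
      · exact Or.inr ⟨h2, h1⟩
      · exact Or.inl (h2.trans h1.symm)
  have hDz : (D : ZMod r) ≠ 0 := by rwa [Ne, ZMod.natCast_eq_zero_iff]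
  rcases hsone with h0 | ⟨h0, h3⟩
  · rw [h0] at hDs
    have h1 : (a : ZMod r) = (8 : ℕ) := mul_left_cancel₀ hDz hDs
    rw [ZMod.natCast_eq_natCast_iff, Nat.ModEq, Nat.mod_eq_of_lt har, Nat.mod_eq_of_lt hlt] at h1
    rw [h1]
  · exfalso
    rw [h0, h3, Nat.cast_one, one_mul, ← Nat.cast_mul, ZMod.natCast_eq_natCast_iff] at hDs
    have hd : (r : ℤ) ∣ (8 : ℤ) - 3 * a := by
      have := (Nat.modEq_iff_dvd).1 hDs
      push_cast at this
      exact this
    obtain ⟨j, hj⟩ := hd
    obtain ⟨b, hb⟩ := ha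
    obtain ⟨g, hg⟩ := hmod
    have har' : (a : ℤ) < r := by exact_mod_cast har
    have hr9 : (8 : ℤ) < r := by exact_mod_cast hlt
    have ha1 : 0 < a := Nat.pos_of_ne_zero (by rintro rfl; rw [zero_mul] at hb; omega)
    have hb1 : 0 < b := Nat.pos_of_ne_zero (by rintro rfl; rw [mul_zero] at hb; omega)
    -- `3 a - 8 = - j r`
    have hj0 : j ≤ 0 := by
      by_contra hcon
      push Not at hcon
      have h1 : (r : ℤ) * 1 ≤ r * j := mul_le_mul_of_nonneg_left (by omega) (by omega)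
      have : (0 : ℤ) < a := by exact_mod_cast ha1
      omega
    have hj2 : -2 ≤ j := by
      by_contra hcon
      push Not at hcon
      have h1 : (r : ℤ) * j ≤ r * (-3) := mul_le_mul_of_nonneg_left (by omega) (by omega)
      omega
    have hj3 : j = 0 ∨ j = -1 ∨ j = -2 := by omega
    have hrab : (r : ℤ) = a * b + 1 := by
      have : r = a * b + 1 := by omega
      exact_mod_cast this
    rcases hj3 with rfl | rfl | rfl
    · omega
    · -- `3 a = 8 + r`
      have h1 : (3 : ℤ) * a = a * b + 9 := by rw [hrab] at hj; linarith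
      have h2 : 3 * a = a * b + 9 := by exact_mod_cast h1
      have hb3 : b < 3 := by
        by_contra hcon
        push Not at hcon
        have : a * 3 ≤ a * b := Nat.mul_le_mul_left _ hcon
        omega
      interval_cases b <;> omega
    · have h1 : (3 : ℤ) * a = 2 * (a * b) + 10 := by rw [hrab] at hj; linarith
      have h2 : 3 * a = 2 * (a * b) + 10 := by exact_mod_cast h1
      have hb3 : b < 2 := by
        by_contra hcon
        push Not at hcon
        have : a * 2 ≤ a * b := Nat.mul_le_mul_left _ hcon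
        omega
      interval_cases b <;> omega

end Cfsg.Agent.H742.PD
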