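import Cfsg.Agent.H56.Exc.Solv
import Cfsg.Agent.H160.PD.Crit
import Cfsg.Agent.S0205
import Cfsg.Agent.H436.Ppd

/-!
# S4246: big primes (helper742)

* `noOdd_of_big` : two big primes (`H56.Exc.Big`) of different classes satisfy `NoOdd`;
* `good_of` : a big prime not dividing `|Out S|` is good.
-/

set_option autoImplicit false

namespace Cfsg.Agent.H742.PD

open Subgroup Cfsg.Agent.H160.PD Cfsg.Agent.H56.Exc

variable {S : Type*} [Group S] [Finite S]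

/-- **Two big primes of different classes.** -/
theorem noOdd_of_big {r s m e m' e' : ℕ} (h : Big S r m e) (h' : Big S s m' e') (hs : ¬ s ∣ m * e)
    (hr : ¬ r ∣ m' * e') : NoOdd S r s := by
  intro H hodd hrH hsH
  have hsol : Group.IsSolvable H := Cfsg.Agent.S0205.result hodd
  have hF : Fam H (fun a b c => (a = r ∧ b = m ∧ c = e) ∨ (a = s ∧ b = m' ∧ c = e')) := by
    refine ⟨?_, ?_, ?_⟩
    · rintro _ _ _ (⟨rfl, rfl, rfl⟩ | ⟨rfl, rfl, rfl⟩)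
      · exact h.subgroup H
      · exact h'.subgroup H
    · rintro _ _ _ (⟨rfl, rfl, rfl⟩ | ⟨rfl, rfl, rfl⟩)
      · exact hrH
      · exact hsH
    · rintro _ _ _ (⟨rfl, rfl, rfl⟩ | ⟨rfl, rfl, rfl⟩)
      · exact ⟨s, _, _, Or.inr ⟨rfl, rfl, rfl⟩, hs⟩
      · exact ⟨r, _, _, Or.inl ⟨rfl, rfl, rfl⟩, hr⟩
  exact hF.not_isSolvable (Or.inl ⟨rfl, rfl, rfl⟩) hsol

theorem good_of {r : ℕ} (hr : r.Prime) (h2 : r ≠ 2) (hd : r ∣ Nat.card S) (hout : ¬ r ∣ out S) : Good S r := by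
  refine ⟨hr, h2, ?_⟩
  rw [Nat.factorization_eq_zero_of_not_dvd hout]
  exact (v_pos hr).2 hd

/-- A prime with the order `i` does not divide a divisor of `(q ^ a - 1) (q ^ b - 1)`. -/
theorem ndvd_of_prim {q i n m κ a b : ℕ} (h : H436.Prim q i n) (hq : 1 ≤ q)
    (hd : (m : ℤ) ∣ ((q : ℤ) ^ a - 1) * ((q : ℤ) ^ b - 1)) (ha : ¬ i ∣ a) (hb : ¬ i ∣ b) (hκ : ¬ n ∣ κ) :
    ¬ n ∣ m * κ := by
  intro h1
  rcases h.prime.dvd_mul.1 h1 with h2 | h2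
  · have h3 : ((n : ℕ) : ℤ) ∣ ((q : ℤ) ^ a - 1) * ((q : ℤ) ^ b - 1) := (Int.natCast_dvd_natCast.2 h2).trans hd
    have e : ∀ k : ℕ, (q : ℤ) ^ k - 1 = ((q ^ k - 1 : ℕ) : ℤ) := fun k => by
      rw [Nat.cast_sub (Nat.one_le_pow _ _ hq)]; push_cast; ring
    rw [e, e, ← Nat.cast_mul, Int.natCast_dvd_natCast] at h3
    rcases h.prime.dvd_mul.1 h3 with h4 | h4
    · exact h.not_dvd_sub ha h4
    · exact h.not_dvd_sub hb h4
  · exact hκ h2

end Cfsg.Agent.H742.PD
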