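import Cfsg.Agent.H568.ESixThree
import Cfsg.Agent.H129.DataE6e

/-!
# Ranks of the torus elements of order three in `E₆` (helper742)

* `rank_TT` : the rank of `t - 1`, `t` in the torus of `D.group k`, is the number of the roots `y` with `cX t y ≠ 1`;
* `rank_nine`, `rank_twelve`, `rank_eight` : the ranks `54`, `48`, `32` of the elements `t` with
  `cX t y = ω ^ Gq B q y`, `ω` a primitive third root of unity, `q ≡ 1 (mod 3)`.
-/

set_option autoImplicit false
set_option linter.unusedSectionVars false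

namespace Cfsg.Agent.H742.PD

open CoxeterSystem Cfsg Cfsg.Lie Cfsg.Lie.ChevalleyDatum
open Cfsg.Agent.ChevalleyStructure Cfsg.Agent.ChevalleyStructure.Elts Cfsg.Agent.ChevalleyStructure.CoxeterGeom
  Cfsg.Agent.ChevalleyStructure.CoxeterGeomTypes Cfsg.Agent.ChevalleyStructure.NPerm
open Cfsg.Agent.Tits.Roots Cfsg.Agent.Tits.Core Cfsg.Agent.Nodes Cfsg.Agent.Nodes.Reps Cfsg.Agent.Nodes.BNOf
  Cfsg.Agent.Nodes.RGDChev
open Cfsg.Agent.KFacts.RgdChevCoord Cfsg.Agent.GpExc.Field Cfsg.Agent.BpExc.Fr Cfsg.Agent.BpExc.LangFr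
  Cfsg.Agent.BpExc.TowChev Cfsg.Agent.BpExc
open Cfsg.Agent.H129 Cfsg.Agent.H129.TorusChar Cfsg.Agent.H129.TorusCent Cfsg.Agent.H129.TorusTw
  Cfsg.Agent.H129.TorusMain Cfsg.Agent.H129.TorusUntw Cfsg.Agent.H568.ESixThree

universe u

section Rank

variable {D : ChevalleyDatum} {l : ℕ} {M : CoxeterMatrix (Fin l)} (hp : IsType D l M) {k : Type u} [Field k]

/-- the rank of `g - 1` -/
noncomputable def rk {k : Type u} [Field k] {D : ChevalleyDatum} (g : ↥(D.group k)) : ℕ :=
  (((g : GL D.Idx k) : Matrix D.Idx D.Idx k) - 1).rank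

theorem rk_conj (g h : ↥(D.group k)) : rk (g⁻¹ * h * g) = rk h := by
  unfold rk
  have e1 : (((g⁻¹ * h * g : ↥(D.group k)) : GL D.Idx k) : Matrix D.Idx D.Idx k) - 1 =
      (((g⁻¹ : ↥(D.group k)) : GL D.Idx k) : Matrix D.Idx D.Idx k) *
        (((h : GL D.Idx k) : Matrix D.Idx D.Idx k) - 1) * ((g : GL D.Idx k) : Matrix D.Idx D.Idx k) := by
    have h1 : (((g⁻¹ : ↥(D.group k)) : GL D.Idx k) : Matrix D.Idx D.Idx k) *
        ((g : GL D.Idx k) : Matrix D.Idx D.Idx k) = 1 := by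
      rw [Subgroup.coe_inv, ← Units.val_mul, inv_mul_cancel, Units.val_one]
    rw [Subgroup.coe_mul, Subgroup.coe_mul, Units.val_mul, Units.val_mul, mul_sub, sub_mul, mul_one, h1]
  rw [e1]
  have hu : ∀ x : ↥(D.group k), IsUnit (((x : GL D.Idx k) : Matrix D.Idx D.Idx k)).det := fun x =>
    (Matrix.isUnit_iff_isUnit_det _).1 (Units.isUnit _)
  rw [Matrix.rank_mul_eq_left_of_isUnit_det _ _ (hu g), Matrix.rank_mul_eq_right_of_isUnit_det _ _ (hu g⁻¹)]

open Classical in
/-- The rank of `t - 1` for an element of the torus. -/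
theorem rank_TT {t : ↥(D.group k)} (ht : t ∈ TT D k) :
    rk t = (Finset.univ.filter fun s : Fin D.nroots => cX hp t (vec D l s) ≠ 1).card := by
  have ht' := ht
  rw [Subgroup.mem_subgroupOf] at ht
  obtain ⟨c, hc, e, hact⟩ := Tor.exists_c hp ht
  have key : ∀ s, s < D.nroots → ch hp (vec D l s) t = ∏ i ∈ Finset.range D.rank, c i ^ D.cartan i s := by
    intro s hs
    apply ch_eq hp hs ht'
    apply Subtype.ext
    rw [Subgroup.coe_mul, Subgroup.coe_mul, Subgroup.coe_inv, coe_xc hp hs, coe_xc hp hs, hact s hs, mul_one]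
  unfold rk
  rw [e, ← Matrix.diagonal_one, Matrix.diagonal_sub, Matrix.rank_diagonal, Fintype.card_subtype]
  symm
  refine Finset.card_bij (fun s _ => Sum.inr s) ?_ ?_ ?_
  · intro s hs
    rw [Finset.mem_filter] at hs ⊢
    refine ⟨Finset.mem_univ _, ?_⟩
    simp only [Sum.elim_inr]
    rw [sub_ne_zero, ← key s s.2, ← cX_vec hp ht' s.2]
    exact hs.2
  · intro a _ b _ h
    exact Sum.inr_injective h
  · rintro (i | s) hs
    · exfalso
      rw [Finset.mem_filter] at hs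
      simp only [Sum.elim_inl, sub_self, ne_eq, not_true_eq_false, and_false] at hs
    · rw [Finset.mem_filter] at hs
      simp only [Sum.elim_inr] at hs
      refine ⟨s, ?_, rfl⟩
      rw [Finset.mem_filter]
      refine ⟨Finset.mem_univ _, ?_⟩
      rw [cX_vec hp ht' s.2, key s s.2]
      exact sub_ne_zero.1 hs.2

end Rank

/-- the powers of a primitive third root of unity -/
theorem zpow_eq_one_iff {k : Type u} [Field k] {ω : k} (hω : ω ^ 3 = 1) (hω1 : ω ≠ 1) (g : ℤ) :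
    ω ^ g = 1 ↔ g % 3 = 0 := by
  have h3 : (3 : ℤ) ∣ g - g % 3 := Int.dvd_self_sub_emod
  rw [zpow_mod hω h3]
  have h4 := Int.emod_nonneg g (by norm_num : (3 : ℤ) ≠ 0)
  have h5 := Int.emod_lt_of_pos g (by norm_num : (0 : ℤ) < 3)
  have h6 : g % 3 = 0 ∨ g % 3 = 1 ∨ g % 3 = 2 := by omega
  rcases h6 with h | h | h
  · rw [h]; simp
  · rw [h]
    constructor
    · intro h7
      exact absurd (by simpa using h7) hω1
    · intro h7
      norm_num at h7
  · rw [h]
    constructor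
    · intro h7
      exfalso
      have h8 : ω ^ 2 = 1 := by exact_mod_cast h7
      apply hω1
      have h9 : ω ^ 3 = ω ^ 2 * ω := by ring
      rw [hω, h8, one_mul] at h9
      exact h9.symm
    · intro h7
      norm_num at h7

/-- The rank in terms of the weights modulo `3`. -/
theorem rank_mod {D : ChevalleyDatum} {l : ℕ} {M : CoxeterMatrix (Fin l)} (hp : IsType D l M) {k : Type u} [Field k]
    {t : ↥(D.group k)} (ht : t ∈ TT D k) {ω : k} (hω : ω ^ 3 = 1) (hω1 : ω ≠ 1) {q : ℤ} (hq : (3 : ℤ) ∣ q - 1)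
    {B : Fin l → Fin l → ℤ} (h : ∀ y, cX hp t y = ω ^ Gq B q y) {a : ℕ}
    (ha : (Finset.univ.filter fun s : Fin D.nroots => ¬ Gq B 1 (vec D l s) % 3 = 0).card = a) : rk t = a := by
  classical
  rw [rank_TT hp ht, ← ha]
  congr 1
  ext s
  simp only [Finset.mem_filter, Finset.mem_univ, true_and]
  rw [h, Ne, zpow_mod hω (gq_mod _ hq _), zpow_eq_one_iff hω hω1]

section Six

variable {k : Type u} [Field k] {M : CoxeterMatrix (Fin 6)} (hp : IsType chevE6 6 M) {t : ↥(chevE6.group k)}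
  (ht : t ∈ TT chevE6 k) {ω : k} (hω : ω ^ 3 = 1) (hω1 : ω ≠ 1) {q : ℤ} (hq : (3 : ℤ) ∣ q - 1)

include ht hω hω1 hq

set_option maxRecDepth 10000 in
theorem rank_nine (h : ∀ y, cX hp t y = ω ^ Gq H719.TE6_9.B q y) : rk t = 54 :=
  rank_mod hp ht hω hω1 hq h (by decide +kernel)

set_option maxRecDepth 10000 in
theorem rank_twelve (h : ∀ y, cX hp t y = ω ^ Gq H719.TE6_12.B q y) : rk t = 48 :=
  rank_mod hp ht hω hω1 hq h (by decide +kernel)

set_option maxRecDepth 10000 in
theorem rank_eight (h : ∀ y, cX hp t y = ω ^ Gq H129.DataE6e.B q y) : rk t = 32 :=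
  rank_mod hp ht hω hω1 hq h (by decide +kernel)

end Six

end Cfsg.Agent.H742.PD
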