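import Cfsg.Agent.H742.PD.Rank
import Cfsg.Agent.H742.PD.BigTools
import Cfsg.Agent.H742.PD.BigE6
import Cfsg.Agent.H568.ESixThree
import Cfsg.Agent.H70.OutE

/-!
# S4246: the row of `E₆(q)` (helper742)

`row_e6` : `Row K` if `IsoChevE6 K`; the criterion `row_three` with primitive prime divisors of `q⁹ - 1`, `q¹² - 1`,
`q⁸ - 1`.
-/

set_option autoImplicit false
set_option linter.unusedSectionVars false

namespace Cfsg.Agent.H742.PD

open CoxeterSystem Cfsg Cfsg.Lie Cfsg.Lie.ChevalleyDatum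
open Cfsg.Agent.ChevalleyStructure Cfsg.Agent.ChevalleyStructure.Elts Cfsg.Agent.ChevalleyStructure.CoxeterGeom
  Cfsg.Agent.ChevalleyStructure.CoxeterGeomTypes Cfsg.Agent.ChevalleyStructure.NPerm
open Cfsg.Agent.Tits.Roots Cfsg.Agent.Tits.Core Cfsg.Agent.Nodes Cfsg.Agent.Nodes.Reps Cfsg.Agent.Nodes.BNOf
  Cfsg.Agent.Nodes.RGDChev
open Cfsg.Agent.KFacts.RgdChevCoord Cfsg.Agent.GpExc.Field Cfsg.Agent.BpExc.Fr Cfsg.Agent.BpExc.LangFr
  Cfsg.Agent.BpExc.TowChev Cfsg.Agent.BpExc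
open Cfsg.Agent.H129.TorusChar Cfsg.Agent.H129.TorusCent Cfsg.Agent.H129.TorusTw Cfsg.Agent.H129.TorusMain
  Cfsg.Agent.H129.TorusUntw Cfsg.Agent.H719.RowTorus Cfsg.Agent.H719 Cfsg.Agent.H568 Cfsg.Agent.H568.ESixThree
open Cfsg.Agent.H160.PD Cfsg.Agent.H56.Exc

universe u

/-! ### numbers -/

section Arith

variable {K : Type*} [Field K] {x : K}

theorem arith_nine_twelve (h9 : x ^ 6 + x ^ 3 + 1 = 0) (h12 : (x ^ 4 - x ^ 2 + 1) * (x ^ 2 + x + 1) = 0) :
    (3 : K) = 0 := by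
  rcases mul_eq_zero.1 h12 with h | h
  · exfalso
    have h6 : x ^ 6 = -1 := by linear_combination (x ^ 2 + 1) * h
    have h3 : x ^ 3 = 0 := by linear_combination h9 - h6
    have hx : x = 0 := pow_eq_zero_iff (by norm_num) |>.1 h3
    rw [hx] at h9
    norm_num at h9
  · linear_combination h9 - (x - 1) * (x ^ 3 + 2) * h

theorem arith_nine_eight (h2 : (2 : K) ≠ 0) (h9 : x ^ 6 + x ^ 3 + 1 = 0) (h8 : (1 + x ^ 4) * (x ^ 2 - 1) = 0) :
    (3 : K) = 0 := by
  have h : x ^ 9 = 1 := by linear_combination (x ^ 3 - 1) * h9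
  rcases mul_eq_zero.1 h8 with h1 | h1
  · exfalso
    have hx : x = 1 := by linear_combination h - (x ^ 4 - 1) * x * h1
    rw [hx] at h1
    apply h2
    linear_combination h1
  · have hx : x = 1 := by linear_combination h - (x ^ 6 + x ^ 4 + x ^ 2 + 1) * x * h1
    rw [hx] at h9
    linear_combination h9

theorem arith_twelve_eight (h12 : (x ^ 4 - x ^ 2 + 1) * (x ^ 2 + x + 1) = 0) (h8 : (1 + x ^ 4) * (x ^ 2 - 1) = 0) :
    (3 : K) = 0 := by
  rcases mul_eq_zero.1 h12 with h | h <;> rcases mul_eq_zero.1 h8 with h1 | h1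
  · exfalso
    have hx : x ^ 2 = 0 := by linear_combination h1 - h
    have h4 : x ^ 4 = 0 := by linear_combination x ^ 2 * hx
    rw [hx, h4] at h
    norm_num at h
  · exfalso
    have h0 : (1 : K) = 0 := by linear_combination h - x ^ 2 * h1
    exact one_ne_zero h0
  · exfalso
    have h3 : x ^ 3 = 1 := by linear_combination (x - 1) * h
    have hx : x = -1 := by linear_combination h1 - x * h3
    rw [hx] at h
    norm_num at h
  · have hx : x = -2 := by linear_combination h - h1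
    rw [hx] at h1
    linear_combination h1

end Arith

theorem three_of_zmod {l : ℕ} (hl : l.Prime) (h : ((3 : ZMod l)) = 0) : l = 3 := by
  have h1 : ((3 : ℕ) : ZMod l) = 0 := by exact_mod_cast h
  rw [ZMod.natCast_eq_zero_iff] at h1
  exact (Nat.prime_dvd_prime_iff_eq hl Nat.prime_three).1 h1

/-- `3 ∣ q - 1` if `3` divides the orders. -/
theorem three_dvd_of {q : ℕ} (hq : 1 ≤ q) (h : (((q : ZMod 3)) ^ 6 + (q : ZMod 3) ^ 3 + 1 = 0) ∨
    (((q : ZMod 3) ^ 4 - (q : ZMod 3) ^ 2 + 1) * ((q : ZMod 3) ^ 2 + (q : ZMod 3) + 1) = 0)) : 3 ∣ q - 1 := by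
  have h1 : (q : ZMod 3) = 1 := by
    generalize (q : ZMod 3) = x at h
    revert h; revert x; decide
  have h2 : ((q - 1 : ℕ) : ZMod 3) = 0 := by
    rw [Nat.cast_sub hq, h1, Nat.cast_one, sub_self]
  exact (ZMod.natCast_eq_zero_iff _ _).1 h2

/-! ### the classes -/

section Cls

variable {F : Type u} [Field F] [Fintype F]

/-- the type of `E₆` -/
abbrev tp : IsType chevE6 6 CoxeterMatrix.E₆ := by simp

/-- **A class of tori of `E₆(r ^ e)`.** -/
structure Cls (F : Type u) [Field F] [Fintype F] (r e : ℕ) [Fact r.Prime] [CharP (AlgebraicClosure F) r]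
    [Finite CoxeterMatrix.E₆.Group] (hk : LocFin (AlgebraicClosure F)) (B : Fin 6 → Fin 6 → ℤ) (N n ρ h : ℕ) : Prop where
  prime : n.Prime
  ne : n ≠ r
  cop : n.Coprime 3
  ord : ∀ m, n ∣ r ^ m - 1 → e * h ∣ m
  cyc : ∀ P : Sylow n ↥(chevE6.group F), IsCyclic ↥(P : Subgroup ↥(chevE6.group F))
  rank : ∀ t : ↥(chevE6.group (AlgebraicClosure F)), t ∈ TT chevE6 (AlgebraicClosure F) →
    ∀ ω : AlgebraicClosure F, ω ^ 3 = 1 → ω ≠ 1 → (3 : ℤ) ∣ ((r ^ e : ℕ) : ℤ) - 1 →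
    (∀ y, cX tp t y = ω ^ Gq B ((r ^ e : ℕ) : ℤ) y) → rk t = ρ
  pos : N ≠ 0
  tor : ∃ (w : CoxeterMatrix.E₆.Group) (a z t : ↥(chevE6.group (AlgebraicClosure F))) (u : AlgebraicClosure F)
    (x : ↥(chevE6.group F)), Tor tp CoxeterMatrix.E₆.toCoxeterSystem (algebraMap F (AlgebraicClosure F)) r e
      (hN := nsys_of_locFin tp CoxeterMatrix.E₆.toCoxeterSystem hk r) w B N n a z t u x

variable {r e : ℕ} [Fact r.Prime] [CharP (AlgebraicClosure F) r] [Finite CoxeterMatrix.E₆.Group]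
  {hk : LocFin (AlgebraicClosure F)}

/-- A linear automorphism fixing an element of order `n` is conjugate to an element of the torus. -/
theorem Cls.exists_conj {B : Fin 6 → Fin 6 → ℤ} {N n ρ h : ℕ} (C : Cls F r e hk B N n ρ h)
    (hq : Fintype.card F = r ^ e) {b : MulAut ↥(chevE6.group F)} {Mt : ↥(chevE6.group (AlgebraicClosure F))}
    (hφ : phi chevE6 (AlgebraicClosure F) r e Mt = Mt)
    (hform : ∀ y : ↥(chevE6.group F), emb (tp).inList (algebraMap F (AlgebraicClosure F)) (b y) =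
      Mt * emb (tp).inList (algebraMap F (AlgebraicClosure F)) y * Mt⁻¹)
    {y : ↥(chevE6.group F)} (hy : orderOf y = n) (hby : b y = y) {l : ℕ} (hl : l.Prime) (hMl : Mt ^ l = 1) (hM1 : Mt ≠ 1) :
    l ∣ N ∧ (l = 3 → (3 : ℤ) ∣ ((r ^ e : ℕ) : ℤ) - 1 → rk Mt = ρ) := by
  obtain ⟨w, a, z, t, u, x, hT⟩ := C.tor
  have hfact : Fact n.Prime := ⟨C.prime⟩
  have P : Sylow n ↥(chevE6.group F) := default
  obtain ⟨s, hs, -⟩ := conj_of_cyclic P (C.cyc P) hT.hx y hy
  obtain ⟨j, hj⟩ := hs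
  have hj' : (s * x * s⁻¹) ^ j = y := hj
  rw [conj_zpow] at hj'
  have hv1 : x ^ j ≠ 1 := by
    intro h1
    rw [h1] at hj'
    rw [← hj', mul_one, mul_inv_cancel, orderOf_one] at hy
    exact C.prime.one_lt.ne hy
  have h1 := mem_of_fix hT hq hφ hform (v := x ^ j) (s := s) ⟨j, rfl⟩ hv1 (by rw [hj', hby])
  have e1 : z⁻¹ * ((emb (tp).inList (algebraMap F (AlgebraicClosure F)) s)⁻¹ * Mt *
      emb (tp).inList (algebraMap F (AlgebraicClosure F)) s) * z =
      (emb (tp).inList (algebraMap F (AlgebraicClosure F)) s * z)⁻¹ * Mt *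
        (emb (tp).inList (algebraMap F (AlgebraicClosure F)) s * z) := by group
  rw [e1] at h1
  set g := emb (tp).inList (algebraMap F (AlgebraicClosure F)) s * z with hg
  have key : (g⁻¹ * Mt * g) ^ l = 1 ∧ g⁻¹ * Mt * g ≠ 1 := by
    refine ⟨?_, fun h => hM1 ?_⟩
    · have h1 := conj_pow (i := l) (a := g⁻¹) (b := Mt)
      rw [inv_inv] at h1
      rw [h1, hMl]
      group
    · have h1 : Mt = g * (g⁻¹ * Mt * g) * g⁻¹ := by group
      rw [h1, h]
      group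
  refine ⟨?_, ?_⟩
  · have h2 : orderOf (g⁻¹ * Mt * g) = l := orderOf_eq_prime key.1 key.2 (hp := ⟨hl⟩)
    rw [← h2, ← hT.order]
    exact orderOf_dvd_of_mem_zpowers h1
  · rintro rfl hdiv
    obtain ⟨ω, hω, hω1, hch⟩ := char_of_pow_three hT C.pos h1 key.1 key.2
    rw [← rk_conj g Mt]
    exact C.rank _ (Subgroup.zpowers_le.2 hT.ht h1) ω hω hω1 hdiv hch

/-- **Two classes of tori with no common primes except `3`.** -/
theorem inc_of_cls [CharP F r] (hq : Fintype.card F = r ^ e) (he : 0 < e)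
    {B B' : Fin 6 → Fin 6 → ℤ} {N N' n n' ρ ρ' h h' : ℕ} (C : Cls F r e hk B N n ρ h) (C' : Cls F r e hk B' N' n' ρ' h')
    (hh : ∀ m ∈ [2, 5, 6, 8, 9, 12], 0 < m ∧ m < 3 * h) (hρ : ρ ≠ ρ')
    (har : ∀ l, l.Prime → l ≠ 2 → l ∣ N → l ∣ N' → l = 3 ∧ 3 ∣ r ^ e - 1) :
    Inc ↥(chevE6.group F) n n' := by
  have hr : r.Prime := Fact.out
  intro b hb hb2 x hx hbx y hy hby
  have hbl : b ^ orderOf b = 1 := pow_orderOf_eq_one b
  obtain ⟨Mt, hφ, hform⟩ := FldExc.lin_of_fix tp (algebraMap F (AlgebraicClosure F)) hq he invC_E6 (by norm_num)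
    (AutInv.inv_E6 (tp).inList) FldExc.ordF_E6 hb hb2 hbl C.prime C.ne C.cop hx hbx (h := h) C.ord hh
  have hZk : Subgroup.center ↥(chevE6.group (AlgebraicClosure F)) = ⊥ := by
    obtain ⟨hSk, hnak⟩ := S1054.result (F := AlgebraicClosure F) chevE6 (by simp)
    exact Cfsg.Agent.H568.center_eq_bot hnak
  have hpow : ∀ (i : ℕ) (y : ↥(chevE6.group F)), emb (tp).inList (algebraMap F (AlgebraicClosure F)) ((b ^ i) y) =
      Mt ^ i * emb (tp).inList (algebraMap F (AlgebraicClosure F)) y * (Mt ^ i)⁻¹ := by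
    intro i
    induction i with
    | zero => intro y; simp
    | succ i ih =>
      intro y
      rw [pow_succ', MulAut.mul_apply, hform, ih, pow_succ' Mt, mul_inv_rev]
      simp only [mul_assoc]
  have hMl : Mt ^ orderOf b = 1 := by
    refine FamUntw.eq_one_of_comm tp hk r (algebraMap F (AlgebraicClosure F)) hZk fun y => ?_
    have h2 := hpow (orderOf b) y
    rw [hbl] at h2
    exact (eq_mul_inv_iff_mul_eq.1 h2).symm
  have hM1 : Mt ≠ 1 := by
    intro h1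
    have h2 : b = 1 := by
      ext y
      have h4 := hform y
      rw [h1, one_mul, inv_one, mul_one] at h4
      have h5 := emb_injective (tp).inList _ h4
      rw [h5]
      rfl
    rw [h2, orderOf_one] at hb
    exact absurd hb (by norm_num)
  obtain ⟨h1, h2⟩ := C.exists_conj hq hφ hform hx hbx hb hMl hM1
  obtain ⟨h3, h4⟩ := C'.exists_conj hq hφ hform hy hby hb hMl hM1
  obtain ⟨h5, h6⟩ := har _ hb hb2 h1 h3
  have hq1 : 1 ≤ r ^ e := Nat.one_le_pow _ _ hr.pos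
  have hdiv : (3 : ℤ) ∣ ((r ^ e : ℕ) : ℤ) - 1 := by
    have h1 : (((r ^ e - 1 : ℕ)) : ℤ) = ((r ^ e : ℕ) : ℤ) - 1 := by push_cast [Nat.cast_sub hq1]; rfl
    rw [← h1]
    exact_mod_cast h6
  exact hρ ((h2 h5 hdiv).symm.trans (h4 h5 hdiv))

end Cls

end Cfsg.Agent.H742.PD
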